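import Groth.Prelude.Def_DualSh
import Groth.Agent.RelPCLib.Easy
import Groth.Agent.PerfModLib.Basic
import Groth.Agent.DRingLib.AmplitudeTri

/-!
# Relatively perfect complexes over a flat algebra of finite presentation
-/

set_option autoImplicit false
set_option linter.style.haveILetI false

universe u

open CategoryTheory CategoryTheory.Limits HomologicalComplex

attribute [local instance] HasDerivedCategory.standard

namespace Groth.Agent.RelPerfLib

variable (R : Type u) {A : Type u} [CommRing R] [CommRing A] [Algebra R A]

/-- Flatness over `R` of an `A`-module. -/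
abbrev RFlat (M : ModuleCat.{u} A) : Prop :=
  Module.Flat R ((ModuleCat.restrictScalars.{u} (algebraMap R A)).obj M)

variable {R}

theorem rflat_of_flat [Module.Flat R A] (M : ModuleCat.{u} A) [Module.Flat A M] : RFlat R M := by
  letI : Module R (M : Type u) := Module.compHom _ (algebraMap R A)
  haveI : IsScalarTower R A (M : Type u) := IsScalarTower.of_algebraMap_smul fun _ _ => rfl
  exact Module.Flat.trans R A (M : Type u)

theorem rflat_of_iso {M N : ModuleCat.{u} A} (e : M ≅ N) (h : RFlat R M) : RFlat R N :=
  haveI := h
  Module.Flat.of_linearEquiv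
    ((ModuleCat.restrictScalars.{u} (algebraMap R A)).mapIso e).toLinearEquiv.symm

/-- A relatively perfect object is a bounded complex of finitely presented flat modules. -/
theorem exists_rep [Module.Flat R A] {K : Dual.D A} (h : Dual2.IsRelPerfect R A K) :
    ∃ (F E : DRing.Cx A) (g : F ⟶ E) (a b : ℤ), DRing.VanishesAbove F b ∧ DRing.TermwiseFiniteFree F ∧
      QuasiIso g ∧ DRing.VanishesOutside E a b ∧
      (∀ i, Module.FinitePresentation A (E.X i) ∧ RFlat R (E.X i)) ∧
      Nonempty (DRing.toD F ≅ K) := by
  obtain ⟨⟨F, b, hb, hf, ⟨eF⟩⟩, a, c, hac⟩ := h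
  let G := ((ModuleCat.restrictScalars.{u} (algebraMap R A)).mapHomologicalComplex (ComplexShape.up ℤ)).obj F
  have hG : ∀ i, Module.Flat R (G.X i) := fun i => by
    haveI := (hf i).2
    exact rflat_of_flat (F.X i)
  have hamp : DRingLib.Amp a c G := DRingLib.amp_of_hasTorAmplitudeIn hac
    (KFlatLib.isKFlat_of_bounded_flat G b
      (fun i hi => (ModuleCat.restrictScalars.{u} _).map_isZero (hb i hi)) hG)
    (((ModuleCat.restrictScalars.{u} (algebraMap R A)).mapDerivedCategoryFactors.app F).symm ≪≫
      (DRing.restrictD (algebraMap R A)).mapIso eF)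
  haveI : F.IsGE a := (CochainComplex.isGE_iff F a).2 fun i hi => by
    have h0 : G.ExactAt i := (exactAt_iff_isZero_homology _ i).2
      (DRingLib.isZero_homology_of_amp hamp i (Or.inl hi))
    rw [exactAt_iff' _ (i - 1) i (i + 1) (by simp) (by simp),
      ShortComplex.ShortExact.moduleCat_exact_iff_function_exact] at h0 ⊢
    exact h0
  refine ⟨F, F.truncGE a, F.πTruncGE a, a, b, hb, hf,
    (CochainComplex.quasiIso_πTruncGE_iff F a).mpr inferInstance,
    DRingLib.vanishesOutside_truncGE hb a, fun i => ?_, ⟨eF⟩⟩
  rcases lt_trichotomy i a with hi | hi | hi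
  · have hz := CochainComplex.isZero_of_isStrictlyGE (F.truncGE a) a i hi
    haveI := ModuleCat.subsingleton_of_isZero hz
    haveI : Module.Free A ((F.truncGE a).X i) := DRingLib.free_of_isZero hz
    haveI : Module.Finite A ((F.truncGE a).X i) := DRingLib.finite_of_isZero hz
    exact ⟨Module.finitePresentation_of_projective A _, rflat_of_flat _⟩
  · subst hi
    haveI := (hf i).1; haveI := (hf i).2
    haveI := (hf (i - 1)).1
    haveI : Module.FinitePresentation A (F.X i) := Module.finitePresentation_of_projective A _
    let N := LinearMap.range (F.d (i - 1) i).hom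
    haveI : Module.FinitePresentation A ((F.X i : Type u) ⧸ N) :=
      Module.finitePresentation_of_surjective N.mkQ N.mkQ_surjective
        (by rw [Submodule.ker_mkQ]; exact Module.Finite.iff_fg.1 inferInstance)
    let e := DRingLib.truncGEXCoker F i
    refine ⟨Module.FinitePresentation.of_equiv e.toLinearEquiv.symm, rflat_of_iso e.symm ?_⟩
    haveI := hG i
    have hq := KFlatLib.flat_coker_of_homology G i fun N' => hamp N' (i - 1) (Or.inl (by omega))
    let E' : ((G.X i : Type u) ⧸ LinearMap.range (G.d (i - 1) i).hom) ≃ₗ[R]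
        ((ModuleCat.restrictScalars.{u} (algebraMap R A)).obj (ModuleCat.of A ((F.X i : Type u) ⧸ N)) : Type u) :=
      { toFun := fun x => x, invFun := fun x => x, left_inv := fun _ => rfl, right_inv := fun _ => rfl,
        map_add' := fun _ _ => rfl,
        map_smul' := fun r x => Quotient.inductionOn' x fun y => rfl }
    exact Module.Flat.of_linearEquiv E'.symm
  · haveI := (hf i).1; haveI := (hf i).2
    haveI : Module.FinitePresentation A (F.X i) := Module.finitePresentation_of_projective A _
    let e := F.truncGEXIso a i hi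
    exact ⟨Module.FinitePresentation.of_equiv e.toLinearEquiv.symm, rflat_of_iso e.symm (rflat_of_flat _)⟩

/-- A bounded complex of finitely presented flat modules is relatively perfect. -/
theorem isRelPerfect_of_rep [Module.Flat R A] [Algebra.FinitePresentation R A] {K : Dual.D A}
    (E : DRing.Cx A) (a b : ℤ) (hE : DRing.VanishesOutside E a b)
    (hfp : ∀ i, Module.FinitePresentation A (E.X i)) (hfl : ∀ i, RFlat R (E.X i))
    (e : DRing.toD E ≅ K) : Dual2.IsRelPerfect R A K := by
  refine ⟨DRingLib.isPseudoCoherent'_iff_forall.2 fun m => DRingLib.isPseudoCoherent_of_iso e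
    (DRingLib.isPseudoCoherent_of_terms m (b + 1 - m).toNat E
      (fun i hi => hE i (Or.inr (by have := Int.self_le_toNat (b + 1 - m); omega))) fun i => ?_),
    a, b, ((ModuleCat.restrictScalars.{u} (algebraMap R A)).mapHomologicalComplex (ComplexShape.up ℤ)).obj E,
    fun i hi => (ModuleCat.restrictScalars.{u} _).map_isZero (hE i hi), hfl,
    ⟨((ModuleCat.restrictScalars.{u} (algebraMap R A)).mapDerivedCategoryFactors.app E).symm ≪≫
      (DRing.restrictD (algebraMap R A)).mapIso e⟩⟩
  letI : Module R (E.X i : Type u) := Module.compHom _ (algebraMap R A)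
  haveI : IsScalarTower R A (E.X i : Type u) := IsScalarTower.of_algebraMap_smul fun _ _ => rfl
  haveI := hfp i
  haveI : Module.Flat R (E.X i : Type u) := hfl i
  exact PerfModLib.pcoh'_iff.1 (PerfModLib.pcoh'_of_flat (A := R) (B := A) (E.X i : Type u)) (m - i)

end Groth.Agent.RelPerfLib
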