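import Groth.Agent.RelPerfLib.Basic
import Groth.Agent.RelPCLib.TorBC

/-!
# Base change of relatively perfect complexes
-/

set_option autoImplicit false
set_option linter.style.haveILetI false

universe u

open CategoryTheory CategoryTheory.Limits HomologicalComplex
open CochainComplex (mappingCone)
open scoped TensorProduct

attribute [local instance] HasDerivedCategory.standard

namespace Groth.Agent.RelPerfLib

theorem isRelPerfect_lBaseChange {R A R' : Type u} [CommRing R] [CommRing A] [Algebra R A] [CommRing R']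
    [Algebra R R'] [Module.Flat R A]
    [DRing.HasLBaseChange (Algebra.TensorProduct.includeRight.toRingHom : A →+* R' ⊗[R] A)]
    (K : Dual.D A) (hK : Dual2.IsRelPerfect R A K) :
    Dual2.IsRelPerfect R' (R' ⊗[R] A)
      ((DRing.LBaseChange (Algebra.TensorProduct.includeRight.toRingHom : A →+* R' ⊗[R] A)).obj K) := by
  obtain ⟨F, E, g, a, b, hFb, hFf, hg, hE, hT, ⟨eF⟩⟩ := exists_rep hK
  let ι : A →+* R' ⊗[R] A := (Algebra.TensorProduct.includeRight : A →ₐ[R] R' ⊗[R] A).toRingHom
  letI : Algebra A (R' ⊗[R] A) := Algebra.TensorProduct.rightAlgebra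
  have hp : RelPCLib.IsPush (algebraMap R R') (algebraMap R A) (algebraMap A (R' ⊗[R] A))
      (algebraMap R' (R' ⊗[R] A)) ((IsScalarTower.algebraMap_eq R A (R' ⊗[R] A)).symm.trans
        (IsScalarTower.algebraMap_eq R R' (R' ⊗[R] A))) := RelPCLib.isPush_of_isPushout
  obtain ⟨e⟩ := RelPCLib.nonempty_sqIso hp
  let C := mappingCone g
  let Cr := ((ModuleCat.restrictScalars.{u} (algebraMap R A)).mapHomologicalComplex (ComplexShape.up ℤ)).obj C
  have hq : QuasiIso ((DRingLib.extCx ι).map g) := by
    refine KFlatLib.quasiIso_map_of_cone _ g fun i => ?_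
    have hC : ∀ i, Cr.ExactAt i := fun i => by
      have h0 : C.ExactAt i := (exactAt_iff_isZero_homology _ i).2 ((KFlatLib.acyclic_cone_iff g).mpr hg i)
      exact h0.map (ModuleCat.restrictScalars.{u} (algebraMap R A))
    have hCb : ∀ i, b < i → IsZero (Cr.X i) := fun i hi => by
      refine (ModuleCat.restrictScalars.{u} _).map_isZero ?_
      exact (IsZero.iff_id_eq_zero _).2 ((CochainComplex.mappingCone.ext_from_iff g (i + 1) i rfl _ _).2
        ⟨(hFb (i + 1) (by omega)).eq_of_src _ _, (hE i (Or.inr hi)).eq_of_src _ _⟩)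
    have hCt : ∀ i, RelPCLib.TA (ModuleCat.of R R') (Cr.X i) := fun i => by
      refine RelPCLib.ta_mappingCone (algebraMap R A) g i ?_ ?_
      · haveI := (hFf (i + 1)).2
        haveI := rflat_of_flat (R := R) (F.X (i + 1))
        exact RelPCLib.ta_of_flat _
      · haveI := (hT i).2
        exact RelPCLib.ta_of_flat _
    have hex : (((ModuleCat.extendScalars.{u, u, u} (algebraMap R R')).mapHomologicalComplex
        (ComplexShape.up ℤ)).obj Cr).ExactAt i := by
      rw [exactAt_iff' _ (i - 1) i (i + 1) (by simp) (by simp),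
        ShortComplex.ShortExact.moduleCat_exact_iff_function_exact]
      exact RelPCLib.exact_extend_of_ta (algebraMap R R') rfl Cr hC b hCb hCt i
    have h2 : (((ModuleCat.restrictScalars.{u} (algebraMap R' (R' ⊗[R] A))).mapHomologicalComplex
        (ComplexShape.up ℤ)).obj ((DRingLib.extCx ι).obj C)).ExactAt i :=
      hex.of_iso (HomologicalComplex.Hom.isoOfComponents
        (C₁ := ((ModuleCat.extendScalars.{u, u, u} (algebraMap R R')).mapHomologicalComplex (ComplexShape.up ℤ)).obj Cr)
        (fun j => e.app (C.X j)) fun j k _ => (e.hom.naturality (C.d j k)).symm)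
    refine (exactAt_iff_isZero_homology _ i).1 ?_
    rw [exactAt_iff' _ (i - 1) i (i + 1) (by simp) (by simp),
      ShortComplex.ShortExact.moduleCat_exact_iff_function_exact] at h2 ⊢
    exact h2
  haveI : IsIso (DerivedCategory.Q.map ((DRingLib.extCx ι).map g)) :=
    (DerivedCategory.isIso_Q_map_iff_quasiIso (φ := (DRingLib.extCx ι).map g)).2 hq
  have eL : DerivedCategory.Q.obj ((DRingLib.extCx ι).obj F) ≅ (DRing.LBaseChange ι).obj K :=
    (DRingLib.lBaseChangeObjIso ι F
      (DRingLib.isKFlat_of_free F b hFb fun i => (hFf i).2)).symm ≪≫ (DRing.LBaseChange ι).mapIso eF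
  refine ⟨⟨(DRingLib.extCx ι).obj F, b,
    fun i hi => (ModuleCat.extendScalars.{u, u, u} ι).map_isZero (hFb i hi),
    fun i => ⟨DRingLib.finite_extCx ι i (hFf i).1, DRingLib.free_extCx ι i (hFf i).2⟩, ⟨eL⟩⟩, a, b, ?_⟩
  refine ⟨((ModuleCat.restrictScalars.{u} (algebraMap R' (R' ⊗[R] A))).mapHomologicalComplex
      (ComplexShape.up ℤ)).obj ((DRingLib.extCx ι).obj E),
    fun i hi => (ModuleCat.restrictScalars.{u} _).map_isZero
      ((ModuleCat.extendScalars.{u, u, u} ι).map_isZero (hE i hi)), fun i => ?_,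
    ⟨((ModuleCat.restrictScalars.{u} (algebraMap R' (R' ⊗[R] A))).mapDerivedCategoryFactors.app _).symm ≪≫
      (DRing.restrictD (algebraMap R' (R' ⊗[R] A))).mapIso
        ((asIso (DerivedCategory.Q.map ((DRingLib.extCx ι).map g))).symm ≪≫ eL)⟩⟩
  haveI := (hT i).2
  haveI : Module.Flat R' ((ModuleCat.restrictScalars.{u} (algebraMap R A) ⋙
      ModuleCat.extendScalars.{u, u, u} (algebraMap R R')).obj (E.X i)) :=
    Module.Flat.of_linearEquiv (DRingLib.extendScalarsEquiv
      ((ModuleCat.restrictScalars.{u} (algebraMap R A)).obj (E.X i)))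
  exact Module.Flat.of_linearEquiv (e.app (E.X i)).toLinearEquiv.symm

end Groth.Agent.RelPerfLib
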