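import Groth.Agent.RelPerfLib.BaseChange
import Groth.Agent.S6971
import Groth.Agent.S6952

/-!
# Relative perfectness along nilpotent thickenings
-/

set_option autoImplicit false
set_option linter.style.haveILetI false

universe u

open CategoryTheory CategoryTheory.Limits HomologicalComplex
open scoped TensorProduct

attribute [local instance] HasDerivedCategory.standard

namespace Groth.Agent.RelPerfLib

theorem isNilpotent_ker_includeRight {R' A' R : Type u} [CommRing R'] [CommRing A'] [Algebra R' A']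
    [CommRing R] [Algebra R' R] (hs : Function.Surjective (algebraMap R' R))
    (hn : IsNilpotent (RingHom.ker (algebraMap R' R))) :
    IsNilpotent (RingHom.ker
      (Algebra.TensorProduct.includeRight : A' →ₐ[R'] R ⊗[R'] A').toRingHom) := by
  obtain ⟨n, hn⟩ := hn
  let I := RingHom.ker (algebraMap R' R)
  refine ⟨n, le_bot_iff.1 ?_⟩
  have hle : RingHom.ker (Algebra.TensorProduct.includeRight : A' →ₐ[R'] R ⊗[R'] A').toRingHom ≤
      I.map (algebraMap R' A') := by
    intro x hx
    have h0 : Function.Exact (I : Submodule R' R').subtype (Algebra.linearMap R' R) := fun y =>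
      ⟨fun hy => ⟨⟨y, hy⟩, rfl⟩, by rintro ⟨z, rfl⟩; exact z.2⟩
    have h1 : (Algebra.linearMap R' R).rTensor A' ((1 : R') ⊗ₜ[R'] x) = 0 := by
      rw [LinearMap.rTensor_tmul, Algebra.linearMap_apply, map_one]
      exact (RingHom.mem_ker (f := (Algebra.TensorProduct.includeRight : A' →ₐ[R'] R ⊗[R'] A').toRingHom)).1 hx
    obtain ⟨z, hz⟩ := (rTensor_exact A' h0 hs _).1 h1
    have hmem : ∀ z : I ⊗[R'] A', TensorProduct.lid R' A' ((I : Submodule R' R').subtype.rTensor A' z) ∈
        I.map (algebraMap R' A') := fun z => by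
      induction z with
      | zero => simp
      | add a b ha hb => simpa using Ideal.add_mem _ ha hb
      | tmul i a =>
        rw [LinearMap.rTensor_tmul, TensorProduct.lid_tmul, Algebra.smul_def]
        exact Ideal.mul_mem_right _ _ (Ideal.mem_map_of_mem _ i.2)
    have := hmem z
    rw [hz, TensorProduct.lid_tmul, one_smul] at this
    exact this
  refine (Ideal.pow_right_mono hle n).trans ?_
  rw [← Ideal.map_pow, show I ^ n = (0 : Ideal R') from hn, Ideal.zero_eq_bot, Ideal.map_bot]

theorem isRelPerfect_of_nilpotent {R' A' R : Type u} [CommRing R'] [CommRing A'] [Algebra R' A']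
    [CommRing R] [Algebra R' R] [Module.Flat R' A'] (hs : Function.Surjective (algebraMap R' R))
    (hn : IsNilpotent (RingHom.ker (algebraMap R' R)))
    [DRing.HasLBaseChange (Algebra.TensorProduct.includeRight.toRingHom : A' →+* R ⊗[R'] A')]
    (K' : Dual.D A')
    (hK : Dual2.IsRelPerfect R (R ⊗[R'] A')
      ((DRing.LBaseChange (Algebra.TensorProduct.includeRight.toRingHom : A' →+* R ⊗[R'] A')).obj K')) :
    Dual2.IsRelPerfect R' A' K' := by
  let ι : A' →+* R ⊗[R'] A' := (Algebra.TensorProduct.includeRight : A' →ₐ[R'] R ⊗[R'] A').toRingHom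
  obtain ⟨hpc, a, b, hamp⟩ := hK
  have hpc' : DRing.IsPseudoCoherent' A' K' :=
    (S6971.result ι (Algebra.TensorProduct.includeRight_surjective A' hs)
      (isNilpotent_ker_includeRight hs hn) K').1 hpc
  refine ⟨hpc', a, b, ?_⟩
  obtain ⟨F, c, hFb, hFf, ⟨eF⟩⟩ := hpc'
  haveI := DRingLib.hasLBaseChange (algebraMap R' R)
  letI : Algebra A' (R ⊗[R'] A') := Algebra.TensorProduct.rightAlgebra
  have hp : RelPCLib.IsPush (algebraMap R' R) (algebraMap R' A') (algebraMap A' (R ⊗[R'] A'))
      (algebraMap R (R ⊗[R'] A')) ((IsScalarTower.algebraMap_eq R' A' (R ⊗[R'] A')).symm.trans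
        (IsScalarTower.algebraMap_eq R' R (R ⊗[R'] A'))) := RelPCLib.isPush_of_isPushout
  obtain ⟨e⟩ := RelPCLib.nonempty_sqIsoD hp F
  let Fr := ((ModuleCat.restrictScalars.{u} (algebraMap R' A')).mapHomologicalComplex (ComplexShape.up ℤ)).obj F
  have hFr : DRing.IsKFlat R' Fr := KFlatLib.isKFlat_of_bounded_flat Fr c
    (fun i hi => (ModuleCat.restrictScalars.{u} _).map_isZero (hFb i hi))
    fun i => by haveI := (hFf i).2; exact rflat_of_flat (F.X i)
  refine (S6952.result (algebraMap R' R) hs hn _ a b).1 (DRingLib.hasTorAmplitudeIn_of_iso ?_ hamp)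
  exact ((DRing.restrictD (algebraMap R (R ⊗[R'] A'))).mapIso
      ((DRing.LBaseChange ι).mapIso eF.symm ≪≫
        DRingLib.lBaseChangeObjIso ι F (DRingLib.isKFlat_of_free F c hFb fun i => (hFf i).2))) ≪≫
    e.symm ≪≫ (DRingLib.lBaseChangeObjIso (algebraMap R' R) Fr hFr).symm ≪≫
    (DRing.LBaseChange (algebraMap R' R)).mapIso
      (((ModuleCat.restrictScalars.{u} (algebraMap R' A')).mapDerivedCategoryFactors.app F).symm ≪≫
        (DRing.restrictD (algebraMap R' A')).mapIso eF)

end Groth.Agent.RelPerfLib
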