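import Groth.Agent.RelPerfLib.Basic
import Groth.Agent.TwoTermLib.LTCx

/-!
# Tensoring a relatively perfect complex with a perfect complex
-/

set_option autoImplicit false
set_option linter.style.haveILetI false

universe u

open CategoryTheory CategoryTheory.Limits HomologicalComplex MonoidalCategory

attribute [local instance] HasDerivedCategory.standard

namespace Groth.Agent.RelPerfLib

open scoped TensorProduct in
theorem flat_tensor_projective {R A : Type u} [CommRing R] [CommRing A] [Algebra R A]
    (M N : Type u) [AddCommGroup M] [Module A M] [Module R M] [IsScalarTower R A M] [AddCommGroup N]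
    [Module A N] [Module.Flat R M] [Module.Finite A N] [Module.Projective A N] :
    Module.Flat R (M ⊗[A] N) := by
  obtain ⟨n, f, g, -, -, hfg⟩ := Module.Finite.exists_comp_eq_id_of_projective A N
  let e : M ⊗[A] (Fin n → A) ≃ₗ[A] (Fin n → M) := TensorProduct.piScalarRight A A M (Fin n)
  haveI : Module.Flat R (Fin n → M) :=
    Module.Flat.of_linearEquiv (DFinsupp.linearEquivFunOnFintype (R := R) (M := fun _ : Fin n => M)).symm
  haveI : Module.Flat R (M ⊗[A] (Fin n → A)) := Module.Flat.of_linearEquiv (e.restrictScalars R)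
  refine Module.Flat.of_retract ((g.lTensor M).restrictScalars R) ((f.lTensor M).restrictScalars R) ?_
  refine LinearMap.ext fun x => ?_
  change f.lTensor M (g.lTensor M x) = x
  rw [← LinearMap.comp_apply, ← LinearMap.lTensor_comp, hfg, LinearMap.lTensor_id]
  rfl

variable {R A : Type u} [CommRing R] [CommRing A] [Algebra R A]

theorem rflat_tensor_X (P E : DRing.Cx A) (a b : ℤ) (hE : DRing.VanishesOutside E a b)
    (hp : DRing.TermwiseFiniteProjective E) (hP : ∀ i, RFlat R (P.X i)) (n : ℤ) :
    RFlat R ((P ⊗ E).X n) := by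
  classical
  let ι := fun q : ℤ => ιMapBifunctor P E (curriedTensor (ModuleCat.{u} A)) (ComplexShape.up ℤ)
    (n - q) q n (by show n - q + q = n; omega)
  let T : ↥(Finset.Icc a b) → Type u := fun q => TensorProduct A (P.X (n - q.1)) (E.X q.1)
  let S : ModuleCat.{u} A := ModuleCat.of A (Π₀ q, T q)
  let r : S ⟶ (P ⊗ E).X n :=
    ModuleCat.ofHom (DFinsupp.lsum ℕ fun q : ↥(Finset.Icc a b) => (ι q.1).hom)
  let s : (P ⊗ E).X n ⟶ S := mapBifunctorDesc fun p q h =>
    if hq : q ∈ Finset.Icc a b then
      (eqToHom (by rw [show p = n - q by (have : p + q = n := h); omega]) :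
        ((curriedTensor (ModuleCat.{u} A)).obj (P.X p)).obj (E.X q) ⟶
          ((curriedTensor (ModuleCat.{u} A)).obj (P.X (n - q))).obj (E.X q)) ≫
        (ModuleCat.ofHom (DFinsupp.lsingle (R := A) (M := T) ⟨q, hq⟩) :
          ((curriedTensor (ModuleCat.{u} A)).obj (P.X (n - q))).obj (E.X q) ⟶ S)
    else 0
  have hsr : s ≫ r = 𝟙 _ := by
    refine mapBifunctor.hom_ext fun p q h => ?_
    obtain rfl : p = n - q := by
      have : p + q = n := h
      omega
    rw [ι_mapBifunctorDesc_assoc]
    refine Eq.trans ?_ (Category.comp_id _).symm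
    split_ifs with hq
    · rw [eqToHom_refl, Category.id_comp]
      apply ModuleCat.hom_ext
      refine LinearMap.ext fun x => ?_
      exact DFinsupp.lsum_single (R := A) (M := T) (N := ((P ⊗ E).X n : Type u)) ℕ
        (F := fun q : ↥(Finset.Icc a b) => (ι q.1).hom) ⟨q, hq⟩ x
    · have hz : IsZero (E.X q) := hE q (by rw [Finset.mem_Icc] at hq; omega)
      exact ((tensorLeft (P.X (n - q))).map_isZero hz).eq_of_src _ _
  let G := ModuleCat.restrictScalars.{u} (algebraMap R A)
  haveI : ∀ q : ↥(Finset.Icc a b), Module.Flat R (G.obj (ModuleCat.of A (T q))) := fun q => by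
    letI : Module R (P.X (n - q.1) : Type u) := Module.compHom _ (algebraMap R A)
    haveI : IsScalarTower R A (P.X (n - q.1) : Type u) := IsScalarTower.of_algebraMap_smul fun _ _ => rfl
    haveI : Module.Flat R (P.X (n - q.1) : Type u) := hP _
    haveI := (hp q.1).1; haveI := (hp q.1).2
    have h1 := flat_tensor_projective (R := R) (A := A) (P.X (n - q.1) : Type u) (E.X q.1 : Type u)
    let E' : (G.obj (ModuleCat.of A (T q)) : Type u) ≃ₗ[R]
        TensorProduct A (P.X (n - q.1) : Type u) (E.X q.1 : Type u) :=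
      { toFun := fun x => x, invFun := fun x => x, left_inv := fun _ => rfl, right_inv := fun _ => rfl,
        map_add' := fun _ _ => rfl
        map_smul' := fun c x => algebraMap_smul A c (show TensorProduct A (P.X (n - q.1) : Type u)
          (E.X q.1 : Type u) from x) }
    exact Module.Flat.of_linearEquiv E'
  let eS : (Π₀ q, (G.obj (ModuleCat.of A (T q)) : Type u)) ≃ₗ[R] (G.obj S : Type u) :=
    { toFun := fun x => x, invFun := fun x => x, left_inv := fun _ => rfl, right_inv := fun _ => rfl,
      map_add' := fun _ _ => rfl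
      map_smul' := fun c x => DFinsupp.ext fun q => rfl }
  haveI : Module.Flat R (G.obj S) := Module.Flat.of_linearEquiv eS.symm
  refine Module.Flat.of_retract (G.map s).hom (G.map r).hom ?_
  rw [← ModuleCat.hom_comp, ← G.map_comp, hsr, G.map_id]
  rfl

/-- Tensoring with a bounded complex of finite projective modules. -/
theorem isRelPerfect_tensor [Module.Flat R A] [Algebra.FinitePresentation R A] (E : DRing.Cx A) (a b : ℤ)
    (hEb : DRing.VanishesOutside E a b) (hEp : DRing.TermwiseFiniteProjective E)
    [DRing.HasLTensorCx A E] (M : Dual.D A) (hM : Dual2.IsRelPerfect R A M) :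
    Dual2.IsRelPerfect R A ((DRing.LTensorCx A E).obj M) := by
  obtain ⟨F, N, g, c, d, hFb, hFf, hg, hN, hT, ⟨eF⟩⟩ := exists_rep hM
  haveI := hg
  have hEk : DRing.IsKFlat A E := KFlatLib.isKFlat_of_bounded_flat E b
    (fun i hi => hEb i (Or.inr hi)) fun i => by haveI := (hEp i).2; infer_instance
  have hq : QuasiIso (KFlatLib.tMap g (𝟙 E)) := KFlatLib.quasiIso_tMap_right hEk g
  haveI : IsIso (DerivedCategory.Q.map (KFlatLib.tMap g (𝟙 E))) :=
    (DerivedCategory.isIso_Q_map_iff_quasiIso (φ := KFlatLib.tMap g (𝟙 E))).2 hq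
  have eT : DerivedCategory.Q.obj (F ⊗ E) ≅ (DRing.LTensorCx A E).obj M :=
    (TwoTermLib.LTCx.objIso E F (DRingLib.isKFlat_of_free F d hFb fun i => (hFf i).2)).symm ≪≫
      (DRing.LTensorCx A E).mapIso eF
  have hzero : ∀ (P : DRing.Cx A), (∀ i, d < i → IsZero (P.X i)) → ∀ i, d + b < i → IsZero ((P ⊗ E).X i) :=
    fun P hP i hi => TwoTermLib.LTCx.isZero_tensor_X i fun p q hpq => by
      rcases le_or_gt p d with hp | hp
      · exact Or.inr (hEb q (Or.inr (by omega)))
      · exact Or.inl (hP p hp)
  refine ⟨DRingLib.isPseudoCoherent'_iff_forall.2 fun m => DRingLib.isPseudoCoherent_of_iso eT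
    (DRingLib.isPseudoCoherent_of_terms m (d + b + 1 - m).toNat _
      (fun i hi => hzero F hFb i (by have := Int.self_le_toNat (d + b + 1 - m); omega)) fun i => ?_),
    c + a, d + b, ((ModuleCat.restrictScalars.{u} (algebraMap R A)).mapHomologicalComplex
      (ComplexShape.up ℤ)).obj (N ⊗ E), fun i hi => (ModuleCat.restrictScalars.{u} _).map_isZero ?_,
    fun i => rflat_tensor_X N E a b hEb hEp (fun j => (hT j).2) i,
    ⟨((ModuleCat.restrictScalars.{u} (algebraMap R A)).mapDerivedCategoryFactors.app _).symm ≪≫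
      (DRing.restrictD (algebraMap R A)).mapIso
        ((asIso (DerivedCategory.Q.map (KFlatLib.tMap g (𝟙 E)))).symm ≪≫ eT)⟩⟩
  · haveI := TwoTermLib.LTCx.finite_tensor_X (fun i => (hFf i).1) (fun i => (hEp i).1) hFb
      (fun i hi => hEb i (Or.inr hi)) i
    haveI := TwoTermLib.LTCx.projective_tensor_X (P := F) (Q := E)
      (fun j => by haveI := (hFf j).2; infer_instance) (fun j => (hEp j).2) i
    exact (PerfModLib.perfect_iff.1 PerfModLib.perfect_of_finite_free).1 (m - i)
  · refine TwoTermLib.LTCx.isZero_tensor_X i fun p q hpq => ?_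
    rcases hi with hi | hi
    · rcases lt_or_ge p c with hp | hp
      · exact Or.inl (hN p (Or.inl hp))
      · exact Or.inr (hEb q (Or.inl (by omega)))
    · rcases le_or_gt p d with hp | hp
      · exact Or.inr (hEb q (Or.inr (by omega)))
      · exact Or.inl (hN p (Or.inr hp))

end Groth.Agent.RelPerfLib
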